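import Cfsg.Agent.Omega.IId.LFour.Crux
import Cfsg.Agent.Omega.HT.Line
import Cfsg.Agent.Omega.HT.LemEA
import Cfsg.Agent.Omega.HT.End
import Cfsg.Agent.Omega.HT.AlphaY

/-!
# THEOREM JT: an even-subset module of degree 5 over `T = C_S(n)` and the chain of II.0h1, `q = 2`, over `T`

#18752, #18982 (helper385), #18759 (helper171), #18723 (helper376), #19215 (helper644); Lean: helper971.

`M : FiveMod V L`, `n = M.e nn`, `a = M.e aa`; `Dat T V L F M` : `T` is a Sylow 2-subgroup of `C_G(n)` and of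
`C_G(a)`, `Ω₁(Z(T)) = ⟨n, a⟩ F`, the groups `O₂(C_G(d))`, `d` a duad, act on `V` as the transposition and centralise
`F`; there is a noncommuting pair.

* `Dat.htt` : `HTT T (T ⊔ X) (LV ρ) (pt ρ) 0` for the line `ρ = {01, 04, 14}`;
* `Dat.loc_of` : the local condition, if `|S : T| ≤ 4` and `n^w ∈ {n, a}` for the 2-elements `w ∈ N_G(T)`;
* `Dat.sig` : the element `c` of the junction lies in `a F`;
* `Dat.false_of` : the end.
-/

set_option autoImplicit false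
set_option linter.unusedSectionVars false

namespace Cfsg.Agent.Omega.IId.JT

open Subgroup Cfsg Cfsg.Agent.ZN Cfsg.Agent.Omega.HT.Line
open Cfsg.Agent.Omega.HT (HTT Sig)
open Cfsg.Agent.Omega.BTwo hiding nn
open Cfsg.Agent.Omega.S5.Mod Cfsg.Agent.Omega.S5.TT
open Cfsg.Agent.Omega.S5.TT.Pos (n_ne s_ne a_ne n_ne_a n_ne_s a_ne_s e_sq' mem_C)
open Cfsg.Agent.Omega.IId.LFour.Crux (du du_comm nn_comp exists_perm du_comp swap_cases swap_fix swap_mov du_ne)
open Cfsg.Agent.Omega.HTwo.Hat (ZQ)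
open Cfsg.Agent.Omega.HTwo.ThmA (LE)
open Cfsg.Agent.Omega.HTwo.AlphaP (MP)
open Cfsg.Agent.Omega.HOneTwo (UM)

universe u

variable {G : Type u} [Group G]

/-- the line `{01, 04, 14}` -/
def rho {V L : Subgroup G} (M : FiveMod V L) : Fin 3 → G := ![M.e (du 0 1), M.e (du 0 4), M.e (du 1 4)]

/-- `T` is Sylow in `C_G(n)`, `Ω₁(Z(T)) = ⟨n, a⟩ F` -/
structure Dat (T V L F : Subgroup G) (M : FiveMod V L) : Prop where
  hG : IsCharacteristicTwoType G
  T2 : IsPGroup 2 T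
  Tn : T ≤ centralizer ({M.e nn} : Set G)
  odd : ¬ 2 ∣ T.relIndex (centralizer ({M.e nn} : Set G))
  oda : ¬ 2 ∣ T.relIndex (centralizer ({M.e aa} : Set G))
  T_ind : ∀ t ∈ T, ∃ p, TTp p ∧ M.Ind t p
  T_a : M.e aa ∈ zc T
  s : ∀ i j, i ≠ j → V ≤ o2 (centralizer ({M.e (du i j)} : Set G))
  ind : ∀ i j, i ≠ j → ∀ g ∈ o2 (centralizer ({M.e (du i j)} : Set G)), M.Ind g 1 ∨ M.Ind g (Equiv.swap i j)
  FT : ∀ f ∈ F, f ∈ zc T
  FQ : ∀ i j, i ≠ j → ∀ g ∈ o2 (centralizer ({M.e (du i j)} : Set G)), ∀ f ∈ F, g * f = f * g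
  FL : ∀ l ∈ L, ∀ f ∈ F, l * f = f * l
  zT : ∀ x ∈ zc T, ∃ y : Vec, (y = 0 ∨ y = nn ∨ y = aa ∨ y = ss) ∧ ∃ f ∈ F, x = M.e y * f
  mt : ∃ h ∈ centralizer ({M.e nn} : Set G), ∃ v ∈ V, ∃ w ∈ V, h * v * h⁻¹ * w ≠ w * (h * v * h⁻¹)

theorem nn_eq : nn = du 0 1 := by decide
theorem aa_eq : aa = du 2 3 := by decide

/-- the letters of `ρ i` -/
def la : Fin 3 → Fin 5 := ![0, 0, 1]
/-- the letters of `ρ i` -/
def lb : Fin 3 → Fin 5 := ![1, 4, 4]

theorem la_ne_lb : ∀ i : Fin 3, la i ≠ lb i := by decide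

theorem rho_eq {V L : Subgroup G} (M : FiveMod V L) (i : Fin 3) : rho M i = M.e (du (la i) (lb i)) := by
  have key : ∀ i : Fin 3, i = 0 ∨ i = 1 ∨ i = 2 := by decide
  rcases key i with rfl | rfl | rfl <;> rfl

theorem rho_zero {V L : Subgroup G} (M : FiveMod V L) : rho M 0 = M.e nn := by
  rw [nn_eq]; rfl

theorem ln {V L : Subgroup G} (M : FiveMod V L) : Ln (rho M) where
  ne := fun i => by rw [rho_eq]; exact du_ne M (la_ne_lb i)
  sq := fun i => by rw [rho_eq]; exact M.e_sq _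
  prod := by
    change M.e (du 0 1) * M.e (du 0 4) = M.e (du 1 4)
    rw [← M.e_add]
    exact congrArg M.e (by decide)
  prod' := by
    change M.e (du 0 4) * M.e (du 0 1) = M.e (du 1 4)
    rw [← M.e_add]
    exact congrArg M.e (by decide)

theorem rho_mem {V L : Subgroup G} (M : FiveMod V L) (i : Fin 3) : rho M i ∈ V := by
  rw [rho_eq]; exact M.e_mem _

theorem LV_le {V L : Subgroup G} (M : FiveMod V L) : LV (rho M) ≤ V := by
  intro x hx
  rcases (ln M).mem.1 hx with rfl | ⟨i, rfl⟩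
  · exact one_mem _
  · exact rho_mem M i

namespace Dat

variable {T V L F : Subgroup G} {M : FiveMod V L}

section

variable [Finite G] (d : Dat T V L F M)
include d

theorem hV (i j : Fin 3) : rho M j ∈ o2 (centralizer ({rho M i} : Set G)) := by
  rw [rho_eq M i]
  exact d.s _ _ (la_ne_lb i) (rho_mem M j)

theorem hQ (i : Fin 3) : ∀ g ∈ o2 (centralizer ({rho M i} : Set G)), ∀ j,
    g * rho M j * g⁻¹ = rho M j ∨ g * rho M j * g⁻¹ = rho M i * rho M j := by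
  intro g hg j
  rw [rho_eq M i] at hg ⊢
  rw [rho_eq M j]
  rcases d.ind _ _ (la_ne_lb i) g hg with h | h
  · left
    rw [h]
    rfl
  · rcases swap_cases (la i) (lb i) (du (la j) (lb j)) with ⟨h1, -⟩ | ⟨h1, -⟩
    · left; exact swap_fix h h1
    · right; exact swap_mov h h1

/-- `O₂(C(n))` centralises `n^⊥` -/
theorem perp {g : G} (hg : g ∈ o2 (centralizer ({M.e nn} : Set G))) {y : Vec} (hy : y 0 = y 1) :
    g * M.e y = M.e y * g := by
  rw [nn_eq] at hg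
  rcases d.ind 0 1 (by decide) g hg with h | h
  · exact ((mem_centralizer_iff.1 (FiveMod.ind_one_iff.1 h)) _ (M.e_mem y)).symm
  · exact mul_inv_eq_iff_eq_mul.1 (swap_fix h hy)

omit d [Finite G] in
theorem split (y : Vec) (hy : y 0 ≠ y 1) : M.e y = M.e (y + du 0 4) * rho M 1 ∧ (y + du 0 4) 0 = (y + du 0 4) 1 := by
  constructor
  · change M.e y = M.e (y + du 0 4) * M.e (du 0 4)
    rw [← M.e_add]
    congr 1
    rw [add_assoc, add_self, add_zero]
  · change y 0 + du 0 4 0 = y 1 + du 0 4 1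
    have e0 : du 0 4 0 = 1 := by decide
    have e1 : du 0 4 1 = 0 := by decide
    rw [e0, e1, add_zero]
    have key : ∀ a b : ZMod 2, a ≠ b → a + 1 = b := by decide
    exact key _ _ hy

/-- a noncommuting pair on the line -/
theorem mt1 : ∃ h, h * M.e nn = M.e nn * h ∧ h * rho M 1 * h⁻¹ * rho M 1 ≠ rho M 1 * (h * rho M 1 * h⁻¹) := by
  obtain ⟨h, hh, v, hv, w, hw, hne⟩ := d.mt
  refine ⟨h, mem_C.1 hh, ?_⟩
  have hVQ : V ≤ o2 (centralizer ({M.e nn} : Set G)) := by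
    rw [nn_eq]; exact d.s 0 1 (by decide)
  have hn := le_normalizer_o2 (centralizer ({M.e nn} : Set G)) hh
  have hn' := le_normalizer_o2 (centralizer ({M.e nn} : Set G)) (inv_mem hh)
  obtain ⟨y, rfl⟩ := (M.mem_iff v).1 hv
  obtain ⟨z, rfl⟩ := (M.mem_iff w).1 hw
  -- conjugates of `n^⊥` are centralised by `V`
  have key : ∀ {y : Vec}, y 0 = y 1 → ∀ q ∈ o2 (centralizer ({M.e nn} : Set G)),
      h * M.e y * h⁻¹ * q = q * (h * M.e y * h⁻¹) := by
    intro y hy q hq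
    have h1 : h⁻¹ * q * h ∈ o2 (centralizer ({M.e nn} : Set G)) := by
      have := (mem_normalizer_iff.1 hn' q).1 hq
      rwa [inv_inv] at this
    have h2 := d.perp h1 hy
    calc h * M.e y * h⁻¹ * q = h * (M.e y * (h⁻¹ * q * h)) * h⁻¹ := by group
      _ = h * (h⁻¹ * q * h * M.e y) * h⁻¹ := by rw [h2]
      _ = q * (h * M.e y * h⁻¹) := by group
  by_cases hy : y 0 = y 1
  · exact absurd (key hy _ (hVQ (M.e_mem z))) hne
  by_cases hz : z 0 = z 1
  · exfalso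
    apply hne
    exact d.perp ((mem_normalizer_iff.1 hn _).1 (hVQ (M.e_mem y))) hz
  obtain ⟨ey, hy'⟩ := split (M := M) y hy
  obtain ⟨ez, hz'⟩ := split (M := M) z hz
  intro hc
  apply hne
  rw [ey, ez]
  have hr1 : h * rho M 1 * h⁻¹ ∈ o2 (centralizer ({M.e nn} : Set G)) :=
    (mem_normalizer_iff.1 hn _).1 (hVQ (rho_mem M 1))
  have h1 : h * M.e (y + du 0 4) * h⁻¹ ∈ o2 (centralizer ({M.e nn} : Set G)) :=
    (mem_normalizer_iff.1 hn _).1 (hVQ (M.e_mem _))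
  have c1 := key hy' _ (hVQ (M.e_mem (z + du 0 4)))
  have c2 := key hy' _ (hVQ (rho_mem M 1))
  have c3 : h * rho M 1 * h⁻¹ * M.e (z + du 0 4) = M.e (z + du 0 4) * (h * rho M 1 * h⁻¹) := d.perp hr1 hz'
  obtain ⟨A, hA⟩ : ∃ A, A = h * M.e (y + du 0 4) * h⁻¹ := ⟨_, rfl⟩
  obtain ⟨B, hB⟩ : ∃ B, B = h * rho M 1 * h⁻¹ := ⟨_, rfl⟩
  rw [← hA] at c1 c2
  rw [← hB] at c3 hc
  have e : h * (M.e (y + du 0 4) * rho M 1) * h⁻¹ = A * B := by rw [hA, hB]; group
  rw [e]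
  calc A * B * (M.e (z + du 0 4) * rho M 1) = A * (B * M.e (z + du 0 4)) * rho M 1 := by group
    _ = (A * M.e (z + du 0 4)) * (B * rho M 1) := by rw [c3]; group
    _ = M.e (z + du 0 4) * (A * rho M 1) * B := by rw [c1, hc]; group
    _ = M.e (z + du 0 4) * rho M 1 * (A * B) := by rw [c2]; group

theorem hm (i : Fin 3) : ∃ g, g * rho M i = rho M i * g ∧ ∃ j k,
    g * rho M j * g⁻¹ * rho M k ≠ rho M k * (g * rho M j * g⁻¹) := by
  obtain ⟨h, hh, hne⟩ := d.mt1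
  -- a permutation moving `(0 1, 0 4)` to `ρ i` and another point
  have key : ∀ i : Fin 3, ∃ p : Equiv.Perm (Fin 5), du 0 1 ∘ p.symm = du (la i) (lb i) ∧
      ∃ j : Fin 3, du 0 4 ∘ p.symm = du (la j) (lb j) := by
    have h3 : ∀ i : Fin 3, i = 0 ∨ i = 1 ∨ i = 2 := by decide
    intro i
    rcases h3 i with rfl | rfl | rfl
    · exact ⟨1, rfl, 1, rfl⟩
    · exact ⟨Equiv.swap 1 4, by decide, 0, by decide⟩
    · exact ⟨Equiv.swap 0 4, by decide, 1, by decide⟩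
  obtain ⟨p, hp, j, hj⟩ := key i
  obtain ⟨l, hl, hi⟩ := M.exists_lift p
  have hi : M.Ind l p := hi
  have e0 : l * M.e nn * l⁻¹ = rho M i := by rw [hi, nn_eq, hp, ← rho_eq]
  have e1 : l * rho M 1 * l⁻¹ = rho M j := by
    change l * M.e (du 0 4) * l⁻¹ = _
    rw [hi, hj, ← rho_eq]
  refine ⟨l * h * l⁻¹, ?_, j, j, ?_⟩
  · rw [← e0]
    calc l * h * l⁻¹ * (l * M.e nn * l⁻¹) = l * (h * M.e nn) * l⁻¹ := by group
      _ = l * (M.e nn * h) * l⁻¹ := by rw [hh]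
      _ = _ := by group
  · intro hc
    apply hne
    rw [← e1] at hc
    have e2 : l * h * l⁻¹ * (l * rho M 1 * l⁻¹) * (l * h * l⁻¹)⁻¹ = l * (h * rho M 1 * h⁻¹) * l⁻¹ := by group
    rw [e2] at hc
    have h3 : l * (h * rho M 1 * h⁻¹ * rho M 1) * l⁻¹ = l * (rho M 1 * (h * rho M 1 * h⁻¹)) * l⁻¹ := by
      calc _ = l * (h * rho M 1 * h⁻¹) * l⁻¹ * (l * rho M 1 * l⁻¹) := by group
        _ = l * rho M 1 * l⁻¹ * (l * (h * rho M 1 * h⁻¹) * l⁻¹) := hc
        _ = _ := by group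
    exact mul_left_cancel (mul_right_cancel h3)

theorem T_LV : T ≤ normalizer (LV (rho M) : Set G) := by
  intro t ht
  have key : ∀ t ∈ T, ∀ x ∈ LV (rho M), t * x * t⁻¹ ∈ LV (rho M) := by
    intro t ht x hx
    obtain ⟨p, hp, hi⟩ := d.T_ind t ht
    rcases (ln M).mem.1 hx with rfl | ⟨i, rfl⟩
    · rw [mul_one, mul_inv_cancel]; exact one_mem _
    · have h1 : ∀ p : Equiv.Perm (Fin 5), TTp p → ∀ i : Fin 3, ∃ j : Fin 3,
          du (la i) (lb i) ∘ p.symm = du (la j) (lb j) := by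
        intro p hp
        rcases hp with rfl | rfl | rfl | rfl <;> decide
      obtain ⟨j, hj⟩ := h1 p hp i
      rw [rho_eq M i, hi, hj, ← rho_eq]
      exact (ln M).rho_mem j
  exact mem_normalizer_of_conj fun x hx => key t ht x hx

theorem hz : ∀ z ∈ zc T, ∃ v ∈ LV (rho M), ∃ f, z = v * f ∧ (∀ t ∈ T, t * f = f * t) ∧ ∀ i,
    o2 (centralizer ({rho M i} : Set G)) ≤ centralizer ({f} : Set G) := by
  intro z hz
  obtain ⟨y, hy, f, hf, rfl⟩ := d.zT z hz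
  have hfT : ∀ t ∈ T, t * f = f * t := fun t ht => (mem_zc.1 (d.FT f hf)).2.1 t ht
  have haT : ∀ t ∈ T, t * M.e aa = M.e aa * t := fun t ht => (mem_zc.1 d.T_a).2.1 t ht
  have hfQ : ∀ i, o2 (centralizer ({rho M i} : Set G)) ≤ centralizer ({f} : Set G) := by
    intro i g hg
    rw [rho_eq] at hg
    exact mem_C.2 (d.FQ _ _ (la_ne_lb i) g hg f hf)
  have haQ : ∀ i, ∀ g ∈ o2 (centralizer ({rho M i} : Set G)), g * M.e aa = M.e aa * g := by
    intro i g hg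
    rw [rho_eq] at hg
    have h2 : ∀ i : Fin 3, aa (la i) = aa (lb i) := by decide
    rcases d.ind _ _ (la_ne_lb i) g hg with h | h
    · exact ((mem_centralizer_iff.1 (FiveMod.ind_one_iff.1 h)) _ (M.e_mem _)).symm
    · exact mul_inv_eq_iff_eq_mul.1 (swap_fix h (h2 i))
  have hafT : ∀ t ∈ T, t * (M.e aa * f) = M.e aa * f * t := fun t ht => by
    rw [← mul_assoc, haT t ht, mul_assoc, hfT t ht, mul_assoc]
  have hafQ : ∀ i, o2 (centralizer ({rho M i} : Set G)) ≤ centralizer ({M.e aa * f} : Set G) := by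
    intro i g hg
    rw [mem_C, ← mul_assoc, haQ i g hg, mul_assoc, mem_C.1 (hfQ i hg), mul_assoc]
  rcases hy with rfl | rfl | rfl | rfl
  · exact ⟨1, one_mem _, f, by rw [M.e_zero], hfT, hfQ⟩
  · exact ⟨M.e nn, by rw [← rho_zero]; exact (ln M).rho_mem 0, f, rfl, hfT, hfQ⟩
  · exact ⟨1, one_mem _, M.e aa * f, by rw [one_mul], hafT, hafQ⟩
  · refine ⟨M.e nn, by rw [← rho_zero]; exact (ln M).rho_mem 0, M.e aa * f, ?_, hafT, hafQ⟩
    rw [← mul_assoc, ← M.e_add]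
    congr 1
    rw [M.e_eq_iff]
    decide

end

end Dat

end Cfsg.Agent.Omega.IId.JT
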