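import Cfsg.Agent.Omega.IId.JT.Base

/-!
# THEOREM JT over `T = C_S(n)`: the frame (helper971)

* `Dat.htt` : `HTT T (T ⊔ X) (LV ρ) (pt ρ) 0` from `Dat` and the local condition;
* `Dat.cz` : `C_{Ω₁Z(T)}(P) = ⟨a⟩ F`;
* `Dat.sig` : the element `c` of the junction lies in `a F`;
* `Dat.false_of` : the end.
-/

set_option autoImplicit false
set_option linter.unusedSectionVars false

namespace Cfsg.Agent.Omega.IId.JT

open Subgroup Cfsg Cfsg.Agent.ZN Cfsg.Agent.Omega.HT.Line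
open Cfsg.Agent.Omega.HT (HTT Sig)
open Cfsg.Agent.Omega.BTwo hiding nn
open Cfsg.Agent.Omega.S5.Mod Cfsg.Agent.Omega.S5.TT
open Cfsg.Agent.Omega.S5.TT.Pos (n_ne s_ne a_ne n_ne_a n_ne_s a_ne_s e_sq' mem_C)
open Cfsg.Agent.Omega.IId.LFour.Crux (du du_comm nn_comp exists_perm du_comp swap_cases swap_fix swap_mov du_ne)
open Cfsg.Agent.Omega.HTwo.Hat (ZQ)
open Cfsg.Agent.Omega.HTwo.ThmA (LE)
open Cfsg.Agent.Omega.HTwo.AlphaP (MP)
open Cfsg.Agent.Omega.HOneTwo (UM)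

universe u

variable {G : Type u} [Group G]

namespace Dat

variable {T V L F : Subgroup G} {M : FiveMod V L}

variable [Finite G] (d : Dat T V L F M)
include d

/-- the frame -/
theorem htt (hloc : ∀ K : Subgroup G, IsPGroup 2 K → T ≤ normalizer (K : Set G) →
      XX (LV (rho M)) (pt (rho M)) ≤ normalizer (K : Set G) → K ≤ centralizer (LV (rho M) : Set G)) :
    HTT T (T ⊔ XX (LV (rho M)) (pt (rho M))) (LV (rho M)) (pt (rho M)) 0 := by
  refine (ln M).htt d.hV d.hQ d.hm d.hG d.T2 ?_ ?_ d.T_LV d.hz ?_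
  · rw [rho_zero]; exact d.Tn
  · rw [rho_zero]; exact d.odd
  · intro K hTK hXK _ _
    exact hloc (o2 K) (MinSimple.VModule.o2_isPGroup K) (hTK.trans (le_normalizer_o2 K)) (hXK.trans (le_normalizer_o2 K))

/-- `X ≤ C(a)` -/
theorem X_a : XX (LV (rho M)) (pt (rho M)) ≤ centralizer ({M.e aa} : Set G) := by
  refine (ln M).XX_le d.hV fun i g hg => ?_
  rw [rho_eq] at hg
  have h2 : ∀ i : Fin 3, aa (la i) = aa (lb i) := by decide
  rw [mem_C]
  rcases d.ind _ _ (la_ne_lb i) g hg with h | h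
  · exact ((mem_centralizer_iff.1 (FiveMod.ind_one_iff.1 h)) _ (M.e_mem _)).symm
  · exact mul_inv_eq_iff_eq_mul.1 (swap_fix h (h2 i))

/-- `X ≤ C(F)` -/
theorem X_F {f : G} (hf : f ∈ F) : XX (LV (rho M)) (pt (rho M)) ≤ centralizer ({f} : Set G) := by
  refine (ln M).XX_le d.hV fun i g hg => ?_
  rw [rho_eq] at hg
  exact mem_C.2 (d.FQ _ _ (la_ne_lb i) g hg f hf)

theorem T_a' {t : G} (ht : t ∈ T) : t * M.e aa = M.e aa * t := (mem_zc.1 d.T_a).2.1 t ht

theorem T_F {t f : G} (ht : t ∈ T) (hf : f ∈ F) : t * f = f * t := (mem_zc.1 (d.FT f hf)).2.1 t ht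

theorem a_mem : M.e aa ∈ zc T ⊓ centralizer ((T ⊔ XX (LV (rho M)) (pt (rho M)) : Subgroup G) : Set G) := by
  refine ⟨d.T_a, mem_centralizer_iff.2 fun x hx => ?_⟩
  have h1 : T ⊔ XX (LV (rho M)) (pt (rho M)) ≤ centralizer ({M.e aa} : Set G) :=
    sup_le (fun t ht => mem_C.2 (d.T_a' ht)) d.X_a
  exact mem_C.1 (h1 hx)

theorem f_mem {f : G} (hf : f ∈ F) :
    f ∈ zc T ⊓ centralizer ((T ⊔ XX (LV (rho M)) (pt (rho M)) : Subgroup G) : Set G) := by
  refine ⟨d.FT f hf, mem_centralizer_iff.2 fun x hx => ?_⟩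
  have h1 : T ⊔ XX (LV (rho M)) (pt (rho M)) ≤ centralizer ({f} : Set G) :=
    sup_le (fun t ht => mem_C.2 (d.T_F ht hf)) (d.X_F hf)
  exact mem_C.1 (h1 hx)

/-- an element of `X` moving `n` to `ρ i` -/
theorem exists_X (i : Fin 3) : ∃ x ∈ XX (LV (rho M)) (pt (rho M)), x * M.e nn * x⁻¹ = rho M i := by
  have b : BT (LV (rho M)) (pt (rho M)) := (ln M).bt d.hV d.hQ d.hm
  obtain ⟨x, hx, e⟩ := b.trans_X_one 0 i
  refine ⟨x, hx, ?_⟩
  have h1 : x * rho M 0 * x⁻¹ ∈ pt (rho M) i := by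
    rw [← e]; exact conj_mem_cj (mem_zpowers _)
  rcases (ln M).mem_pt.1 h1 with h2 | h2
  · exfalso
    apply (ln M).ne 0
    rw [mul_inv_eq_one] at h2
    exact mul_left_cancel (h2.trans (mul_one x).symm)
  · rw [← rho_zero]; exact h2

/-- `C_{Ω₁Z(T)}(P) = ⟨a⟩ F` -/
theorem cz {x : G} (hx : x ∈ zc T ⊓ centralizer ((T ⊔ XX (LV (rho M)) (pt (rho M)) : Subgroup G) : Set G)) :
    ∃ f ∈ F, x = f ∨ x = M.e aa * f := by
  obtain ⟨y, hy, f, hf, rfl⟩ := d.zT x hx.1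
  refine ⟨f, hf, ?_⟩
  -- `n ∉ C(X) ⟨a⟩ F`
  have hXx : ∀ g ∈ XX (LV (rho M)) (pt (rho M)), g * (M.e y * f) = M.e y * f * g := fun g hg =>
    mem_centralizer_iff.1 hx.2 g ((le_sup_right : XX (LV (rho M)) (pt (rho M)) ≤ _) hg)
  have hy' : ∀ g ∈ XX (LV (rho M)) (pt (rho M)), g * M.e y = M.e y * g := by
    intro g hg
    have h1 := hXx g hg
    have h2 : g * f = f * g := mem_C.1 (d.X_F hf hg)
    have h3 : (g * M.e y) * f = (M.e y * g) * f := by
      rw [mul_assoc, h1, mul_assoc, mul_assoc, h2]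
    exact mul_right_cancel h3
  have hn : ¬ ∀ g ∈ XX (LV (rho M)) (pt (rho M)), g * M.e nn = M.e nn * g := by
    intro h
    obtain ⟨g, hg, e⟩ := d.exists_X 1
    rw [h g hg, mul_inv_cancel_right, ← rho_zero] at e
    exact (ln M).inj (by decide) e
  rcases hy with rfl | rfl | rfl | rfl
  · left; rw [M.e_zero, one_mul]
  · exact absurd hy' hn
  · right; rfl
  · exfalso
    apply hn
    intro g hg
    have h1 := hy' g hg
    have h2 : g * M.e aa = M.e aa * g := mem_C.1 (d.X_a hg)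
    have e : M.e ss = M.e nn * M.e aa := by
      rw [← M.e_add, M.e_eq_iff]; decide
    rw [e] at h1
    have h3 : (g * M.e nn) * M.e aa = (M.e nn * g) * M.e aa := by
      rw [mul_assoc, h1, mul_assoc, mul_assoc, h2]
    exact mul_right_cancel h3

/-- the element `c` of the junction lies in `a F` -/
theorem sig {c : G} (hc : c ∈ zc T ⊓ centralizer ((T ⊔ XX (LV (rho M)) (pt (rho M)) : Subgroup G) : Set G))
    (hs : Sig (LV (rho M)) (pt (rho M)) 0 c) : ∃ f ∈ F, c = M.e aa * f := by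
  obtain ⟨f, hf, h | h⟩ := d.cz hc
  swap
  · exact ⟨f, hf, h⟩
  exfalso
  subst h
  obtain ⟨g, hg, hi⟩ := M.exists_lift (Equiv.swap 4 2)
  have hi : M.Ind g (Equiv.swap 4 2) := hi
  have hgn : g * M.e nn = M.e nn * g := (hi.commute_iff _).2 (Or.inl (by decide))
  have hgN : g ∈ normalizer (pt (rho M) 0 : Set G) := by
    rw [(ln M).mem_N, rho_zero]; exact hgn
  have hgf : g * c * g⁻¹ = c := by rw [d.FL g hg c hf, mul_inv_cancel_right]
  -- `n^⊥ ≤ Z(Q o)`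
  have hperp : ∀ y : Vec, y 0 = y 1 → M.e y ∈ ZQ (pt (rho M)) 0 := by
    intro y hy
    have e1 : QQ (pt (rho M) 0) = o2 (centralizer ({M.e nn} : Set G)) := by
      rw [QQ, (ln M).normalizer_pt, rho_zero]
      rfl
    rw [ZQ, e1]
    refine ⟨?_, mem_centralizer_iff.2 fun q hq => d.perp hq hy⟩
    rw [nn_eq]
    exact d.s 0 1 (by decide) (M.e_mem y)
  have hmem : ∀ v ∈ LV (rho M), g * v * g⁻¹ ∈ LV (rho M) ⊔ ZQ (pt (rho M)) 0 := by
    intro v hv
    rcases (ln M).mem.1 hv with rfl | ⟨i, rfl⟩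
    · rw [mul_one, mul_inv_cancel]; exact one_mem _
    · rw [rho_eq]
      rcases swap_cases 4 2 (du (la i) (lb i)) with ⟨h1, -⟩ | ⟨h1, -⟩
      · rw [swap_fix hi h1, ← rho_eq]
        exact mem_sup_left ((ln M).rho_mem i)
      · rw [swap_mov hi h1, ← rho_eq]
        exact mul_mem (mem_sup_right (hperp _ (by decide))) (mem_sup_left ((ln M).rho_mem i))
  have h1 := hs g hgN hmem (rho M 1) ((ln M).rho_mem 1) (fun h => by
    rcases (ln M).mem_pt.1 h with h2 | h2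
    · exact (ln M).ne 1 h2
    · exact (ln M).inj (by decide) h2)
  have e2 : g * rho M 1 * g⁻¹ = M.e (du 4 2) * rho M 1 := swap_mov hi (by decide)
  have e3 : (rho M 1 * c)⁻¹ * g * (rho M 1 * c) * g⁻¹ = c⁻¹ * ((rho M 1)⁻¹ * M.e (du 4 2) * rho M 1) * c := by
    calc (rho M 1 * c)⁻¹ * g * (rho M 1 * c) * g⁻¹
        = c⁻¹ * (rho M 1)⁻¹ * (g * rho M 1 * g⁻¹) * (g * c * g⁻¹) := by group
      _ = _ := by rw [e2, hgf]; group
  rw [e3] at h1
  have e4 : (rho M 1)⁻¹ * M.e (du 4 2) * rho M 1 = M.e (du 4 2) := by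
    rw [mul_assoc, inv_mul_eq_iff_eq_mul]
    exact M.e_comm _ _
  have hcd : M.e (du 4 2) * c = c * M.e (du 4 2) :=
    d.FQ 4 2 (by decide) _ (d.s 4 2 (by decide) (M.e_mem _)) c hf
  rw [e4, mul_assoc, hcd, inv_mul_cancel_left, (ln M).mem_pt, rho_zero] at h1
  rcases h1 with h1 | h1
  · exact du_ne M (by decide) h1
  · rw [M.e_eq_iff] at h1
    revert h1
    decide

/-- **THEOREM JT**, abstract form -/
theorem false_of (hloc : ∀ K : Subgroup G, IsPGroup 2 K → T ≤ normalizer (K : Set G) →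
      XX (LV (rho M)) (pt (rho M)) ≤ normalizer (K : Set G) → K ≤ centralizer (LV (rho M) : Set G))
    (hLE : ∀ i, LE (LV (rho M)) (pt (rho M)) i) {f₀ : G} (hf₀ : f₀ ∈ F) (hf₀1 : f₀ ≠ 1)
    (haf : M.e aa ∉ F)
    (hz : ∀ f ∈ F, Sig (LV (rho M)) (pt (rho M)) 0 (M.e aa * f) →
      ¬ 2 ∣ T.relIndex (MP (LV (rho M)) (pt (rho M)) 0 (M.e aa * f)) ∧
      ∀ g : G, g * (M.e ss * f) = M.e ss * f * g → ∀ v ∈ LV (rho M), v * (g * M.e nn * g⁻¹) = g * M.e nn * g⁻¹ * v) :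
    False := by
  have b := d.htt hloc
  have hr : ∀ x, x ∈ pt (rho M) 0 ↔ x = 1 ∨ x = M.e nn := by
    intro x; rw [(ln M).mem_pt, rho_zero]
  have ha1 : M.e aa ≠ 1 := a_ne M
  have hTa : T ≤ centralizer ({M.e aa} : Set G) := fun t ht => mem_C.2 (d.T_a' ht)
  have hodd : ¬ 2 ∣ T.relIndex (HT.JunAB.MZ T (LV (rho M)) (pt (rho M))) := by
    have h1 : HT.JunAB.MZ T (LV (rho M)) (pt (rho M)) ≤ centralizer ({M.e aa} : Set G) := by
      refine sup_le (centralizer_le ?_) d.X_a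
      rintro _ rfl
      exact d.T_a
    have h2 : T ≤ HT.JunAB.MZ T (LV (rho M)) (pt (rho M)) := by
      refine le_trans ?_ le_sup_left
      intro t ht
      exact mem_centralizer_iff.2 fun z hz => ((mem_zc.1 hz).2.1 t ht).symm
    exact fun h => d.oda (h.trans ⟨_, (relIndex_mul_relIndex _ _ _ h2 h1).symm⟩)
  have key := HT.Main.main b hLE hr hodd (fun _ c hc hs => by
    obtain ⟨f, hf, rfl⟩ := d.sig hc hs
    obtain ⟨h1, h2⟩ := hz f hf hs
    have hne : M.e aa * f ≠ 1 := by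
      intro h
      apply haf
      have e : f = M.e aa := by
        rw [← M.e_inv aa]; exact (inv_eq_of_mul_eq_one_right h).symm
      rw [← e]; exact hf
    have hcore := HT.Main.core_of_odd b hr hc hne h1
    have ess : M.e aa * f * M.e nn = M.e ss * f := by
      have h3 : f * M.e nn = M.e nn * f :=
        (d.FQ 0 1 (by decide) _ (by
          have := d.s 0 1 (by decide) (M.e_mem nn)
          exact this) f hf).symm
      rw [mul_assoc, h3, ← mul_assoc, ← M.e_add]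
      congr 1
      rw [M.e_eq_iff]
      decide
    refine ⟨M.e aa * f, hc, hne, Or.inr rfl, hcore, ?_⟩
    refine HT.AlphaY.not_alpha b hr hLE hc hne (HT.Main.gsys_of_core b hr hc hne hcore) ?_
    rw [ess]
    exact h2) (M.e aa) d.a_mem f₀ (d.f_mem hf₀) ha1 hf₀1
  exact haf (key ▸ hf₀)

end Dat

end Cfsg.Agent.Omega.IId.JT
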